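import Cfsg.Agent.LeechModel.Table

/-!
A table of a conjugacy class up to conjugation by an element of prime order, with least representatives.
-/

set_option autoImplicit false

namespace Cfsg.Agent.OutTab

open Cfsg.Agent.Compute Cfsg.Agent.StemCert
open Cfsg.Agent.LeechModel (HasCode allBelow_split)

/-- Look up in an array given in eight parts. -/
noncomputable def look (l : List (Arr ℕ)) (j : ℕ) : ℕ :=
  (l.getD (Nat.mod j 8) .nil).get 0 (Nat.div j 8)

/-- A table: codes of representatives with parents, witnesses and ranks. -/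
structure Tab where
  /-- the number of representatives -/
  size : ℕ
  /-- the code of a representative -/
  code : List (Arr ℕ)
  /-- parent, conjugators, witnesses and rank of a representative -/
  info : List (Arr ℕ)
  /-- the representatives in the order of their keys -/
  ord : List (Arr ℕ)

variable (T : Tab) (q n w : ℕ)

/-- The code of a representative. -/
noncomputable def Tab.rep (j : ℕ) : ℕ := look T.code j

/-- The parent. -/
noncomputable def Tab.par (j : ℕ) : ℕ := getField 24 (look T.info j) 0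

/-- The conjugating letters. -/
noncomputable def Tab.via (j : ℕ) : ℕ := getField 24 (look T.info j) 1

/-- The witness for a sign: condition and point. -/
noncomputable def Tab.wit (j e : ℕ) : ℕ := getField 24 (look T.info j) (Nat.add 2 e)

/-- The rank. -/
noncomputable def Tab.rk (j : ℕ) : ℕ := getField 24 (look T.info j) 4

/-- One link of the tree. -/
noncomputable def Tab.linkAt (k : ℕ) (cs tw : List ℕ) (j : ℕ) : Bool :=
  cond (Nat.beq j 0)
    (allBelow n fun p => Nat.beq (getField w (T.rep j) p) (appW w cs tw p))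
    (Nat.blt (T.par j) j && Nat.blt (Nat.mod (T.via j) 256) k && Nat.blt (Nat.div (T.via j) 256) k &&
      forceN (cs.getD (Nat.mod (T.via j) 256) 0) fun s =>
      forceN (cs.getD (Nat.div (T.via j) 256) 0) fun x =>
      forceN (T.rep j) fun c => forceN (T.rep (T.par j)) fun d =>
        allBelow n fun p => Nat.beq (getField w c (getField w s (getField w x p)))
          (getField w s (getField w x (getField w d p))))

/-- A listed element at a point. -/
noncomputable def Tab.img (xs : List ℕ) (j m p : ℕ) : ℕ :=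
  getField w (xs.getD m 0) (getField w (T.rep j) (getField w (xs.getD (Nat.mod (Nat.sub q m) q) 0) p))

/-- The key of a listed element. -/
noncomputable def Tab.key (xs pts : List ℕ) (j m : ℕ) : ℕ :=
  List.rec (motive := fun _ => ℕ) 0
    (fun p _ r => Nat.add (T.img q w xs j m p) (Nat.shiftLeft r w)) pts

/-- A representative has the least key among its conjugates, and its rank is right. -/
noncomputable def Tab.minAt (xs pts : List ℕ) (j : ℕ) : Bool :=
  forceN (T.key q w xs pts j 0) fun K =>
    allBelow (Nat.sub q 1) (fun m => Nat.blt K (T.key q w xs pts j (Nat.succ m))) &&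
      Nat.blt (T.rk j) T.size && Nat.beq (look T.ord (T.rk j)) j

/-- The keys increase in the given order. -/
noncomputable def Tab.sortAt (xs pts : List ℕ) (i : ℕ) : Bool :=
  Nat.beq (Nat.succ i) T.size ||
    Nat.blt (T.key q w xs pts (look T.ord i) 0) (T.key q w xs pts (look T.ord (Nat.succ i)) 0)

/-- The word of a condition. -/
noncomputable def condWord (c : List ℕ × ℕ) : List ℕ :=
  (List.replicate c.2 (c.1.flatMap fun a => [a, q])).flatten

/-- The codes for a sign and an element. -/
noncomputable def condCodes (xs : List ℕ) (e c : ℕ) : List ℕ :=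
  ((List.range q).map fun a => xs.getD (Nat.mod (Nat.mul e a) q) 0) ++ [c]

/-- The sign exponents. -/
noncomputable def signExp (e : ℕ) : ℕ := cond (Nat.beq e 0) 1 (Nat.sub q 1)

/-- A representative fails a condition, except the first with positive sign. -/
noncomputable def Tab.refuteAt (xs : List ℕ) (conds : List (List ℕ × ℕ)) (j : ℕ) : Bool :=
  allBelow 2 fun e => (Nat.beq j 0 && Nat.beq e 0) ||
    forceN (Nat.mod (T.wit j e) 64) fun ci => forceN (Nat.div (T.wit j e) 64) fun p =>
      Nat.blt ci conds.length && Nat.blt p n &&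
        !(Nat.beq (appW w (condCodes q xs (signExp q e) (T.rep j))
          (condWord q (conds.getD ci ([], 0))) p) p)

/-- A check on an interval. -/
noncomputable def rangeB (f : ℕ → Bool) (lo hi : ℕ) : Bool :=
  allBelow (Nat.sub hi lo) fun i => f (Nat.add lo i)

theorem of_ranges {f : ℕ → Bool} {size len cnt : ℕ} (hcov : size ≤ len * cnt)
    (h : ∀ c < cnt, rangeB f (len * c) (min (len * (c + 1)) size) = true) :
    ∀ j < size, f j = true := by
  intro j hj
  have hlen : 0 < len := Nat.pos_of_ne_zero fun h0 => by rw [h0, Nat.zero_mul] at hcov; omega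
  have hc : j / len < cnt := by
    rw [Nat.div_lt_iff_lt_mul hlen, Nat.mul_comm]
    omega
  exact allBelow_split (h _ hc) (Nat.mul_div_le j len) (lt_min (Nat.lt_mul_div_succ j hlen) hj)

/-- The codes of the powers of an element of order dividing `q`. -/
def PowCodes {G : Type*} [Group G] (ι : G →* Equiv.Perm (Fin n)) (X : G) (xs : List ℕ) : Prop :=
  X ^ q = 1 ∧ Coded (w := w) (k := q) ι (fun m => X ^ m) xs

variable {T} {q n w}
variable {k : ℕ} {G : Type*} [Group G] {ι : G →* Equiv.Perm (Fin n)} {gen : ℕ → G}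
  {cs pts xs : List ℕ} {X : G}

/-- Powers from a check. -/
theorem powCodes_of_check (hc : Coded (w := w) (k := k) ι gen cs) (hb : IsBase ι pts) (s : ℕ)
    (hs : s < k) (hq : eqOn w cs pts (List.replicate q s) [] = true)
    (hx : allBelow q (fun m => allBelow n fun p =>
      Nat.beq (getField w (xs.getD m 0) p) (appW w cs (List.replicate m s) p)) = true) :
    PowCodes q n w ι (gen s) xs := by
  refine ⟨?_, fun m hm x => ?_⟩
  · have := eq_of_eqOn hc hb (fun t ht => (List.eq_of_mem_replicate ht) ▸ hs) (by simp) hq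
    rwa [evalW_replicate] at this
  · show (ι (gen s ^ m) x : ℕ) = _
    rw [← evalW_replicate gen m s, appW_spec hc _ (fun t ht => (List.eq_of_mem_replicate ht) ▸ hs) x]
    exact (Nat.eq_of_beq_eq_true (allBelow_eq_true.mp (allBelow_eq_true.mp hx m hm) x x.2)).symm

theorem Tab.exists_rep (hc : Coded (w := w) (k := k) ι gen cs) {tw : List ℕ}
    (htw : ∀ s ∈ tw, s < k) (h : ∀ j < T.size, T.linkAt n w k cs tw j = true) :
    ∀ j < T.size, ∃ a : G, HasCode ι w (a * evalW gen tw * a⁻¹) (T.rep j) := by
  intro j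
  induction j using Nat.strong_induction_on with
  | _ j ih =>
    intro hj
    have hl := h j hj
    rw [Tab.linkAt] at hl
    cases hj0 : Nat.beq j 0
    · rw [hj0, cond_false] at hl
      simp only [Bool.and_eq_true, Nat.blt_eq, forceN_eq] at hl
      obtain ⟨⟨⟨hp, hv⟩, hm⟩, he⟩ := hl
      obtain ⟨a, ha⟩ := ih _ hp (hp.trans hj)
      set v := Nat.mod (T.via j) 256
      set u := Nat.div (T.via j) 256
      refine ⟨gen v * gen u * a, fun r => ?_⟩
      obtain ⟨p, rfl⟩ := (ι (gen v * gen u)).surjective r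
      have e := Nat.eq_of_beq_eq_true (allBelow_eq_true.mp he p p.2)
      rw [← hc _ hm p, ← hc _ hv, ← ha p, ← hc _ hm, ← hc _ hv] at e
      rw [show gen v * gen u * a * evalW gen tw * (gen v * gen u * a)⁻¹ =
        gen v * gen u * (a * evalW gen tw * a⁻¹) * (gen v * gen u)⁻¹ by group, map_mul, map_inv,
        Equiv.Perm.mul_apply, Equiv.Perm.inv_def, Equiv.symm_apply_apply, map_mul, map_mul]
      simp only [Equiv.Perm.mul_apply]
      exact e.symm
    · rw [hj0, cond_true] at hl
      refine ⟨1, fun r => ?_⟩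
      rw [one_mul, inv_one, mul_one, appW_spec hc tw htw r]
      exact (Nat.eq_of_beq_eq_true (allBelow_eq_true.mp hl r r.2)).symm

theorem code_zero {tw : List ℕ} (hc : Coded (w := w) (k := k) ι gen cs) (htw : ∀ s ∈ tw, s < k)
    (h : T.linkAt n w k cs tw 0 = true) : HasCode ι w (evalW gen tw) (T.rep 0) := by
  intro p
  rw [appW_spec hc tw htw p]
  exact (Nat.eq_of_beq_eq_true (allBelow_eq_true.mp h p p.2)).symm

theorem img_spec (hX : PowCodes q n w ι X xs) (hq0 : 0 < q) {r : G} {j : ℕ}
    (hr : HasCode ι w r (T.rep j)) {m : ℕ} (hm : m < q) (p : Fin n) :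
    (ι (X ^ m * r * (X ^ m)⁻¹) p : ℕ) = T.img q w xs j m p := by
  have hinv : (X ^ m)⁻¹ = X ^ ((q - m) % q) := by
    refine inv_eq_of_mul_eq_one_right ?_
    rw [← pow_eq_pow_mod _ hX.1, ← pow_add, Nat.add_sub_cancel' hm.le, hX.1]
  rw [hinv, map_mul, map_mul, Equiv.Perm.mul_apply, Equiv.Perm.mul_apply, hX.2 m hm, hr,
    hX.2 _ (Nat.mod_lt _ hq0)]
  rfl

theorem key_congr {g : G} {j j' m m' : ℕ} {pts : List ℕ} (hlt : ∀ p ∈ pts, p < n)
    (h : ∀ p : Fin n, (ι g p : ℕ) = T.img q w xs j m p)
    (h' : ∀ p : Fin n, (ι g p : ℕ) = T.img q w xs j' m' p) :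
    T.key q w xs pts j m = T.key q w xs pts j' m' := by
  induction pts with
  | nil => rfl
  | cons b bs ih =>
    have e : T.img q w xs j m b = T.img q w xs j' m' b :=
      ((h ⟨b, hlt b (by simp)⟩).symm.trans (h' ⟨b, hlt b (by simp)⟩) :)
    show Nat.add (T.img q w xs j m b) (Nat.shiftLeft (T.key q w xs bs j m) w) =
      Nat.add (T.img q w xs j' m' b) (Nat.shiftLeft (T.key q w xs bs j' m') w)
    rw [e, ih fun p hp => hlt p (List.mem_cons_of_mem _ hp)]

/-- Conjugates of distinct listed pairs are distinct. -/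
theorem Tab.rep_injective (hX : PowCodes q n w ι X xs) (hq0 : 0 < q) (hpts : ∀ p ∈ pts, p < n)
    (hmin : ∀ j < T.size, T.minAt q w xs pts j = true)
    (hsort : ∀ i < T.size, T.sortAt q w xs pts i = true) {r : ℕ → G}
    (hr : ∀ j < T.size, HasCode ι w (r j) (T.rep j)) {j j' m m' : ℕ} (hj : j < T.size)
    (hj' : j' < T.size) (hm : m < q) (hm' : m' < q)
    (he : X ^ m * r j * (X ^ m)⁻¹ = X ^ m' * r j' * (X ^ m')⁻¹) : j = j' ∧ m = m' := by
  have hkey : ∀ {a a' d d' : ℕ}, a < T.size → a' < T.size → d < q → d' < q →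
      X ^ d * r a * (X ^ d)⁻¹ = X ^ d' * r a' * (X ^ d')⁻¹ →
      T.key q w xs pts a d = T.key q w xs pts a' d' := by
    intro a a' d d' ha ha' hd hd' e
    exact key_congr hpts (fun p => img_spec hX hq0 (hr a ha) hd p)
      (fun p => by rw [e]; exact img_spec hX hq0 (hr a' ha') hd' p)
  have hleast : ∀ a < T.size, ∀ d < q, T.key q w xs pts a 0 ≤ T.key q w xs pts a d ∧
      (T.key q w xs pts a 0 = T.key q w xs pts a d → d = 0) := by
    intro a ha d hd
    have h := hmin a ha
    simp only [Tab.minAt, forceN_eq, Bool.and_eq_true] at h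
    rcases Nat.eq_zero_or_pos d with rfl | hpos
    · exact ⟨le_rfl, fun _ => rfl⟩
    · have := allBelow_eq_true.mp h.1.1 (d - 1) (show d - 1 < q - 1 by omega)
      rw [Nat.blt_eq, show Nat.succ (d - 1) = d by omega] at this
      exact ⟨this.le, fun e => absurd e this.ne⟩
  have hshift : ∀ {a a' d d' : ℕ}, d < q → d' < q →
      X ^ d * r a * (X ^ d)⁻¹ = X ^ d' * r a' * (X ^ d')⁻¹ →
      X ^ 0 * r a * (X ^ 0)⁻¹ = X ^ ((q - d + d') % q) * r a' * (X ^ ((q - d + d') % q))⁻¹ := by
    intro a a' d d' hd _ e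
    rw [← pow_eq_pow_mod _ hX.1, pow_add, show X ^ (q - d) = (X ^ d)⁻¹ from
      eq_inv_of_mul_eq_one_left (by rw [← pow_add, Nat.sub_add_cancel hd.le, hX.1])]
    calc X ^ 0 * r a * (X ^ 0)⁻¹ = (X ^ d)⁻¹ * (X ^ d * r a * (X ^ d)⁻¹) * X ^ d := by group
      _ = _ := by rw [e]; group
  have e1 := hshift hm hm' he
  have e2 := hshift hm' hm he.symm
  have k1 := hkey hj hj' hq0 (Nat.mod_lt _ hq0) e1
  have k2 := hkey hj' hj hq0 (Nat.mod_lt _ hq0) e2
  obtain ⟨l1, u1⟩ := hleast j' hj' _ (Nat.mod_lt (q - m + m') hq0)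
  obtain ⟨l2, -⟩ := hleast j hj _ (Nat.mod_lt (q - m' + m) hq0)
  have hk : T.key q w xs pts j 0 = T.key q w xs pts j' 0 := by omega
  have hrk : ∀ a < T.size, T.rk a < T.size ∧ look T.ord (T.rk a) = a := by
    intro a ha
    have h := hmin a ha
    simp only [Tab.minAt, forceN_eq, Bool.and_eq_true, Nat.blt_eq, Nat.beq_eq] at h
    exact ⟨h.1.2, h.2⟩
  have hmono : ∀ a b, a < b → b < T.size →
      T.key q w xs pts (look T.ord a) 0 < T.key q w xs pts (look T.ord b) 0 := by
    intro a b hab
    induction b with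
    | zero => omega
    | succ b ih =>
      intro hb
      have hs := hsort b (by omega)
      simp only [Tab.sortAt, Bool.or_eq_true, Nat.beq_eq, Nat.blt_eq, Nat.succ_eq_add_one] at hs
      rcases hs with hs | hs
      · omega
      rcases Nat.lt_succ_iff_lt_or_eq.mp hab with h1 | h1
      · exact (ih h1 (by omega)).trans hs
      · exact h1 ▸ hs
  have hjj : j = j' := by
    obtain ⟨a1, b1⟩ := hrk j hj
    obtain ⟨a2, b2⟩ := hrk j' hj'
    rw [← b1, ← b2] at hk ⊢
    rcases Nat.lt_trichotomy (T.rk j) (T.rk j') with h | h | h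
    · exact absurd hk (hmono _ _ h a2).ne
    · rw [h]
    · exact absurd hk (hmono _ _ h a1).ne'
  refine ⟨hjj, ?_⟩
  have h0 := u1 (hk.symm.trans k1)
  obtain ⟨c, hc⟩ := Nat.dvd_of_mod_eq_zero h0
  rcases Nat.lt_or_ge c 2 with hc2 | hc2
  · interval_cases c <;> omega
  · have : q * 2 ≤ q * c := Nat.mul_le_mul_left q hc2
    omega

/-- What a checked table gives. -/
theorem Tab.class_eq [Finite G] (hc : Coded (w := w) (k := k) ι gen cs) {tw : List ℕ}
    (htw : ∀ s ∈ tw, s < k) (hlink : ∀ j < T.size, T.linkAt n w k cs tw j = true)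
    (hX : PowCodes q n w ι X xs) (hq0 : 0 < q) (hpts : ∀ p ∈ pts, p < n)
    (hmin : ∀ j < T.size, T.minAt q w xs pts j = true)
    (hsort : ∀ i < T.size, T.sortAt q w xs pts i = true) {N : ℕ}
    (hcent : N ≤ Nat.card (Subgroup.centralizer ({evalW gen tw} : Set G)))
    (hN : Nat.card G = q * T.size * N) :
    (∀ g, IsConj (evalW gen tw) g → ∃ j < T.size, ∃ (m : ℕ) (r : G),
      m < q ∧ HasCode ι w r (T.rep j) ∧ g = X ^ m * r * (X ^ m)⁻¹) ∧
      Nat.card (Subgroup.centralizer ({evalW gen tw} : Set G)) = N := by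
  classical
  set t := evalW gen tw
  choose a ha using Tab.exists_rep hc htw hlink
  let r : ℕ → G := fun j => if h : j < T.size then a j h * t * (a j h)⁻¹ else 1
  have hr : ∀ j < T.size, HasCode ι w (r j) (T.rep j) := fun j hj => by
    simp only [r, dif_pos hj]; exact ha j hj
  let f : Fin T.size × Fin q → {g : G // IsConj t g} := fun i =>
    ⟨X ^ (i.2 : ℕ) * r i.1 * (X ^ (i.2 : ℕ))⁻¹,
      isConj_iff.mpr ⟨X ^ (i.2 : ℕ) * a i.1 i.1.2, by simp only [r, dif_pos i.1.2]; group⟩⟩
  have hf : Function.Injective f := fun i i' e => by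
    obtain ⟨e1, e2⟩ := Tab.rep_injective hX hq0 hpts hmin hsort hr i.1.2 i'.1.2 i.2.2 i'.2.2
      (congrArg Subtype.val e)
    exact Prod.ext (Fin.ext e1) (Fin.ext e2)
  have hclass : Nat.card {g : G // IsConj t g} *
      Nat.card (Subgroup.centralizer ({t} : Set G)) = Nat.card G := by
    have h := Nat.card_congr (MulAction.orbitProdStabilizerEquivGroup (ConjAct G) t)
    rw [Nat.card_prod] at h
    have e1 : Nat.card {g : G // IsConj t g} = Nat.card (MulAction.orbit (ConjAct G) t) :=
      Nat.card_congr (Equiv.subtypeEquivRight fun g => by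
        rw [ConjAct.mem_orbit_conjAct, isConj_comm])
    have e2 : Nat.card (Subgroup.centralizer ({t} : Set G)) =
        Nat.card (MulAction.stabilizer (ConjAct G) t) :=
      Nat.card_congr (ConjAct.toConjAct.toEquiv.subtypeEquiv fun g => by
        rw [Subgroup.mem_centralizer_singleton_iff, MulAction.mem_stabilizer_iff]
        show g * t = t * g ↔ ConjAct.toConjAct g • t = t
        rw [ConjAct.toConjAct_smul, mul_inv_eq_iff_eq_mul])
    rw [e1, e2, h]
    exact Nat.card_congr ConjAct.ofConjAct.toEquiv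
  have hle : q * T.size ≤ Nat.card {g : G // IsConj t g} := by
    have := Nat.card_le_card_of_injective f hf
    rwa [Nat.card_prod, Nat.card_fin, Nat.card_fin, Nat.mul_comm] at this
  have hpos : 0 < q * T.size := by
    refine Nat.pos_of_ne_zero fun h => ?_
    rw [h, zero_mul] at hN
    exact Nat.card_pos.ne' hN
  have hN0 : 0 < N := Nat.pos_of_ne_zero fun h => by
    rw [h, mul_zero] at hN
    exact Nat.card_pos.ne' hN
  have h1 : Nat.card {g : G // IsConj t g} = q * T.size := by
    refine le_antisymm ?_ hle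
    by_contra hgt
    have : (q * T.size + 1) * N ≤ Nat.card {g : G // IsConj t g} *
        Nat.card (Subgroup.centralizer ({t} : Set G)) := Nat.mul_le_mul (by omega) hcent
    rw [hclass, hN, Nat.add_mul] at this
    omega
  refine ⟨fun g hg => ?_, ?_⟩
  · have hb : Function.Bijective f := (Nat.bijective_iff_injective_and_card f).mpr
      ⟨hf, by rw [h1, Nat.card_prod, Nat.card_fin, Nat.card_fin, Nat.mul_comm]⟩
    obtain ⟨i, hi⟩ := hb.2 ⟨g, hg⟩
    exact ⟨i.1, i.1.2, i.2, _, i.2.2, hr _ i.1.2, (congrArg Subtype.val hi).symm⟩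
  · rw [h1, hN] at hclass
    exact Nat.eq_of_mul_eq_mul_left hpos hclass

/-- The evaluation of a condition. -/
theorem cond_coded (hX : PowCodes q n w ι X xs) (hq0 : 0 < q) {r : G} {c e : ℕ}
    (hr : HasCode ι w r c) :
    Coded (w := w) (k := q + 1) ι (fun a => if a < q then X ^ (e * a) else r)
      (condCodes q xs e c) := by
  intro a ha x
  show (ι (if a < q then X ^ (e * a) else r) x : ℕ) = _
  rcases Nat.lt_or_ge a q with h | h
  · rw [if_pos h, pow_eq_pow_mod _ hX.1, hX.2 _ (Nat.mod_lt _ hq0)]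
    simp [condCodes, List.getD_eq_getElem?_getD, List.getElem?_append, h]
    rfl
  · obtain rfl : a = q := by omega
    rw [if_neg (lt_irrefl a), hr]
    simp [condCodes, List.getD_eq_getElem?_getD]

theorem condWord_lt {c : List ℕ × ℕ} (h : ∀ a ∈ c.1, a < q) : ∀ s ∈ condWord q c, s < q + 1 := by
  intro s hs
  simp only [condWord, List.mem_flatten, List.mem_replicate] at hs
  obtain ⟨l, ⟨-, rfl⟩, hs⟩ := hs
  simp only [List.mem_flatMap, List.mem_cons, List.not_mem_nil, or_false] at hs
  obtain ⟨a, ha, hs | hs⟩ := hs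
  · have := h a ha; omega
  · omega

/-- An automorphism with `X ↦ X ^ ±1` fixes `X` and sends `t` to a conjugate by a power of `X`. -/
theorem Tab.solutions [Finite G] (hX : PowCodes q n w ι X xs) (hq0 : 0 < q)
    {conds : List (List ℕ × ℕ)} (hconds : ∀ c ∈ conds, ∀ a ∈ c.1, a < q) {t : G}
    (ht : ∀ c ∈ conds, evalW (fun a => if a < q then X ^ a else t) (condWord q c) = 1)
    (href : ∀ j < T.size, T.refuteAt q n w xs conds j = true) (φ : MulAut G) {e : ℕ}
    (he : e < 2) (hφ : φ X = X ^ signExp q e) {j m : ℕ} {r : G} (hj : j < T.size)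
    (hr : HasCode ι w r (T.rep j)) (hm : φ t = X ^ m * r * (X ^ m)⁻¹) : j = 0 ∧ e = 0 := by
  have h := allBelow_eq_true.mp (href j hj) e he
  simp only [Bool.or_eq_true, Bool.and_eq_true, Nat.beq_eq, forceN_eq, Bool.not_eq_true',
    Nat.blt_eq] at h
  rcases h with ⟨rfl, rfl⟩ | ⟨⟨hi, hp⟩, hne⟩
  · exact ⟨rfl, rfl⟩
  exfalso
  set ci := Nat.mod (T.wit j e) 64
  have hci : conds.getD ci ([], 0) ∈ conds := by
    rw [List.getD_eq_getElem _ _ hi]; exact List.getElem_mem hi
  set c := conds.getD ci ([], 0)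
  have hmap := congrArg φ (ht c hci)
  rw [map_one, ← MulEquiv.coe_toMonoidHom, map_evalW] at hmap
  have hfun : ∀ s, (φ.toMonoidHom ∘ fun a => if a < q then X ^ a else t) s =
      X ^ m * (if s < q then X ^ (signExp q e * s) else r) * (X ^ m)⁻¹ := by
    intro s
    change φ (if s < q then X ^ s else t) = _
    by_cases hs : s < q
    · rw [if_pos hs, if_pos hs, map_pow, hφ, ← pow_mul, ← pow_add, Nat.add_comm, pow_add,
        mul_inv_cancel_right]
    · rw [if_neg hs, if_neg hs, hm]
  rw [show φ.toMonoidHom ∘ (fun a => if a < q then X ^ a else t) =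
    fun s => MulAut.conj (X ^ m) (if s < q then X ^ (signExp q e * s) else r) from funext hfun] at hmap
  rw [show evalW (fun s => MulAut.conj (X ^ m) (if s < q then X ^ (signExp q e * s) else r))
      (condWord q c) = MulAut.conj (X ^ m) (evalW (fun s => if s < q then X ^ (signExp q e * s) else r)
        (condWord q c)) from (map_evalW (MulAut.conj (X ^ m)).toMonoidHom _ _).symm] at hmap
  rw [MulEquiv.map_eq_one_iff] at hmap
  have := appW_spec (cond_coded (e := signExp q e) hX hq0 hr) (condWord q c)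
    (condWord_lt (hconds c hci)) ⟨_, hp⟩
  rw [hmap] at this
  simp only [map_one, Equiv.Perm.one_apply] at this
  rw [← this] at hne
  simp at hne

end Cfsg.Agent.OutTab
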