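import Mathlib
import Cfsg.Prelude.Def_KGroupFacts
import Cfsg.Agent.OutTab.Table

/-!
All automorphisms are inner: criterion from a table of a class of elements.
-/

set_option autoImplicit false

namespace Cfsg.Agent.OutTab

open Cfsg.Agent.Compute Cfsg.Agent.StemCert
open Cfsg.Agent.LeechModel (HasCode)

variable {G : Type*} [Group G] [Finite G] {q : ℕ} {x t : G}

/-- After an inner automorphism an element of order `q` goes to itself or its inverse. -/
theorem exists_conj_to_sign (hq : q.Prime) (hx : orderOf x = q) (hsyl : ¬ q ^ 2 ∣ Nat.card G)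
    {r : ℕ} {h : G} (hh : h * x * h⁻¹ = x ^ r)
    (hfin : ∀ k : Fin q, k.val ≠ 0 →
      ∃ j : Fin q, r ^ j.val * k.val % q = 1 ∨ r ^ j.val * k.val % q = q - 1)
    (y : G) (hy : orderOf y = q) :
    ∃ g : G, g * y * g⁻¹ = x ∨ g * y * g⁻¹ = x ^ (q - 1) := by
  have := Fact.mk hq
  have hs : ∀ a : G, orderOf a = q →
      ∃ P : Sylow q G, (P : Subgroup G) = Subgroup.zpowers a := by
    intro a ha
    have h1 : IsPGroup q (Subgroup.zpowers a) :=
      IsPGroup.of_card (n := 1) (by rw [Nat.card_zpowers, ha, pow_one])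
    obtain ⟨P, hP⟩ := h1.exists_le_sylow
    refine ⟨P, (Subgroup.eq_of_le_of_card_ge hP ?_).symm⟩
    rw [Nat.card_zpowers, ha, P.card_eq_multiplicity]
    calc q ^ (Nat.card G).factorization q ≤ q ^ 1 := by
          refine Nat.pow_le_pow_right hq.pos ?_
          by_contra hc
          exact hsyl ((pow_dvd_pow q (show 2 ≤ _ by omega)).trans (Nat.ordProj_dvd _ q))
      _ = q := pow_one _
  obtain ⟨P, hP⟩ := hs x hx
  obtain ⟨R, hR⟩ := hs y hy
  obtain ⟨g, hg⟩ := MulAction.exists_smul_eq G R P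
  have hmem : g * y * g⁻¹ ∈ Subgroup.zpowers x := by
    rw [← hP, ← hg, Sylow.coe_subgroup_smul, hR]
    exact Subgroup.smul_mem_pointwise_smul _ (MulAut.conj g) _ (Subgroup.mem_zpowers _)
  obtain ⟨k, hk, e⟩ : ∃ k, k < q ∧ x ^ k = g * y * g⁻¹ := by
    obtain ⟨k', e'⟩ := (isOfFinOrder_of_finite x).mem_powers_iff_mem_zpowers.mpr hmem
    exact ⟨k' % q, Nat.mod_lt _ hq.pos, by
      change x ^ k' = _ at e'
      rw [← e', ← hx, pow_mod_orderOf]⟩
  have hk0 : k ≠ 0 := by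
    rintro rfl
    have hc : orderOf (g * y * g⁻¹) = q :=
      (orderOf_injective (MulAut.conj g).toMonoidHom (MulAut.conj g).injective _).trans hy
    rw [← e, pow_zero, orderOf_one] at hc
    exact hq.one_lt.ne hc
  obtain ⟨j, hj⟩ := hfin ⟨k, hk⟩ hk0
  have hconj : ∀ i m : ℕ, h ^ i * x ^ m * (h ^ i)⁻¹ = x ^ (r ^ i * m) := by
    intro i
    induction i with
    | zero => intro m; simp
    | succ i ih =>
      intro m
      rw [pow_succ, show h ^ i * h * x ^ m * (h ^ i * h)⁻¹ =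
        h ^ i * (h * x ^ m * h⁻¹) * (h ^ i)⁻¹ by group, ← conj_pow, hh, ← pow_mul, ih, pow_succ,
        mul_assoc]
  refine ⟨h ^ (j : ℕ) * g, ?_⟩
  have hval : h ^ (j : ℕ) * g * y * (h ^ (j : ℕ) * g)⁻¹ = x ^ (r ^ (j : ℕ) * k % q) := by
    rw [show h ^ (j : ℕ) * g * y * (h ^ (j : ℕ) * g)⁻¹ =
      h ^ (j : ℕ) * (g * y * g⁻¹) * (h ^ (j : ℕ))⁻¹ by group, ← e, hconj,
      ← pow_eq_pow_mod _ (show x ^ q = 1 by rw [← hx, pow_orderOf_eq_one])]
  rcases hj with hj | hj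
  · exact Or.inl (by rw [hval, hj, pow_one])
  · exact Or.inr (by rw [hval, hj])

omit [Finite G] in
/-- The criterion. -/
theorem card_out_eq_one (hgen : Subgroup.closure ({x, t} : Set G) = ⊤)
    (hpm : ∀ y : G, orderOf y = q → ∃ g : G, g * y * g⁻¹ = x ∨ g * y * g⁻¹ = x ^ (q - 1))
    (hx : orderOf x = q)
    (hsol : ∀ φ : MulAut G, φ x = x ∨ φ x = x ^ (q - 1) →
      ∃ m : ℕ, φ x = x ∧ φ t = x ^ m * t * (x ^ m)⁻¹) :
    Nat.card (Cfsg.Out G) = 1 := by
  have hall : ∀ φ : MulAut G, φ ∈ Cfsg.Inn G := by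
    intro φ
    obtain ⟨g, hg⟩ := hpm (φ x) (by rw [MulEquiv.orderOf_eq, hx])
    obtain ⟨m, e1, e2⟩ := hsol (MulAut.conj g * φ) hg
    change g * φ x * g⁻¹ = x at e1
    change g * φ t * g⁻¹ = _ at e2
    refine ⟨g⁻¹ * x ^ m, (MulEquiv.toMonoidHom_injective (MonoidHom.eq_of_eqOn_dense hgen ?_))⟩
    rintro a (rfl | rfl)
    · change g⁻¹ * a ^ m * a * (g⁻¹ * a ^ m)⁻¹ = φ a
      calc g⁻¹ * a ^ m * a * (g⁻¹ * a ^ m)⁻¹ = g⁻¹ * a * g := by group
        _ = g⁻¹ * (g * φ a * g⁻¹) * g := by rw [e1]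
        _ = φ a := by group
    · change g⁻¹ * x ^ m * a * (g⁻¹ * x ^ m)⁻¹ = φ a
      calc g⁻¹ * x ^ m * a * (g⁻¹ * x ^ m)⁻¹ = g⁻¹ * (x ^ m * a * (x ^ m)⁻¹) * g := by group
        _ = g⁻¹ * (g * φ a * g⁻¹) * g := by rw [e2]
        _ = φ a := by group
  rw [show Cfsg.Out G = (MulAut G ⧸ Cfsg.Inn G) from rfl, Nat.card_eq_one_iff_unique]
  exact ⟨⟨fun a b => by
    obtain ⟨a, rfl⟩ := QuotientGroup.mk_surjective a
    obtain ⟨b, rfl⟩ := QuotientGroup.mk_surjective b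
    exact QuotientGroup.eq.mpr (hall _)⟩, ⟨1⟩⟩

variable {n w k : ℕ} {ι : G →* Equiv.Perm (Fin n)} {gen : ℕ → G} {cs xs : List ℕ} {T : Tab}

omit [Finite G] in
/-- Generation by two elements from normal forms. -/
theorem closure_pair_top {a b : G} (hmem : ∀ s, gen s ∈ Submonoid.closure ({a, b} : Set G))
    (hgen : ∀ z : G, z ∈ Submonoid.closure (gen '' {s | s < k})) :
    Subgroup.closure ({a, b} : Set G) = ⊤ := by
  refine eq_top_iff.mpr fun z _ => ?_
  refine (Submonoid.closure_le (S := (Subgroup.closure ({a, b} : Set G)).toSubmonoid)).mpr ?_ (hgen z)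
  rintro _ ⟨s, -, rfl⟩
  exact (Submonoid.closure_le (S := (Subgroup.closure ({a, b} : Set G)).toSubmonoid)).mpr
    Subgroup.subset_closure (hmem s)

/-- The automorphisms are inner when only one representative passes the conditions. -/
theorem card_out_of_table (hX : PowCodes q n w ι (gen 0) xs) (hq : q.Prime)
    (hx : orderOf (gen 0) = q) (hsyl : ¬ q ^ 2 ∣ Nat.card G) {r : ℕ} {h : G}
    (hh : h * gen 0 * h⁻¹ = gen 0 ^ r)
    (hfin : ∀ k : Fin q, k.val ≠ 0 →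
      ∃ j : Fin q, r ^ j.val * k.val % q = 1 ∨ r ^ j.val * k.val % q = q - 1)
    (hinj : Function.Injective ι) (hgen : Subgroup.closure ({gen 0, t} : Set G) = ⊤)
    (hsame : ∀ φ : MulAut G, IsConj t (φ t))
    (hclass : ∀ g, IsConj t g → ∃ j < T.size, ∃ (m : ℕ) (r : G),
      m < q ∧ HasCode ι w r (T.rep j) ∧ g = gen 0 ^ m * r * (gen 0 ^ m)⁻¹)
    (ht0 : HasCode ι w t (T.rep 0)) {conds : List (List ℕ × ℕ)}
    (hconds : ∀ c ∈ conds, ∀ a ∈ c.1, a < q)
    (ht : ∀ c ∈ conds, evalW (fun a => if a < q then gen 0 ^ a else t) (condWord q c) = 1)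
    (href : ∀ j < T.size, T.refuteAt q n w xs conds j = true) : Nat.card (Cfsg.Out G) = 1 := by
  refine card_out_eq_one hgen (exists_conj_to_sign hq hx hsyl hh hfin) hx fun φ hφ => ?_
  obtain ⟨e, he, hφe⟩ : ∃ e < 2, φ (gen 0) = gen 0 ^ signExp q e := by
    rcases hφ with h | h
    · exact ⟨0, by norm_num, by rw [h]; exact (pow_one _).symm⟩
    · exact ⟨1, by norm_num, h⟩
  obtain ⟨j, hj, m, r, -, hr, hm⟩ := hclass _ (hsame φ)
  obtain ⟨rfl, rfl⟩ := Tab.solutions hX hq.pos hconds ht href φ he hφe hj hr hm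
  refine ⟨m, by rw [hφe]; exact pow_one _, ?_⟩
  rw [hm, hinj (Equiv.ext fun p => Fin.ext ((hr p).trans (ht0 p).symm)) ]

end Cfsg.Agent.OutTab
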