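import Cfsg.Agent.LeechModel.Words

/-!
Straight line programs in coded permutations.
-/

set_option autoImplicit false

namespace Cfsg.Agent.OutTab

open Cfsg.Agent.Compute Cfsg.Agent.StemCert

/-- Every code from the third on is that of a word in the earlier ones. -/
noncomputable def slpB (n w k : ℕ) (cs : List ℕ) (ws : List (List ℕ)) : Bool :=
  allBelow k fun s => Nat.blt s 2 || (allB (fun t => Nat.blt t s) (ws.getD s []) &&
    forceN (cs.getD s 0) fun c =>
      allBelow n fun p => Nat.beq (appW w cs (ws.getD s []) p) (getField w c p))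

theorem exists_slp {n w k : ℕ} {G : Type*} [Group G] {ι : G →* Equiv.Perm (Fin n)} {pair : ℕ → G}
    {cs : List ℕ} {ws : List (List ℕ)} (hp : Coded (w := w) (k := 2) ι pair cs)
    (h : slpB n w k cs ws = true) :
    ∃ g : ℕ → G, Coded (w := w) (k := k) ι g cs ∧ g 0 = pair 0 ∧ g 1 = pair 1 ∧
      ∀ s, g s ∈ Submonoid.closure ({pair 0, pair 1} : Set G) := by
  classical
  suffices H : ∀ K ≤ k, ∃ g : ℕ → G, Coded (w := w) (k := K) ι g cs ∧ g 0 = pair 0 ∧
      g 1 = pair 1 ∧ ∀ s, g s ∈ Submonoid.closure ({pair 0, pair 1} : Set G) from H k le_rfl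
  intro K
  induction K with
  | zero =>
    refine fun _ => ⟨fun s => if s = 0 then pair 0 else pair 1, fun s hs => absurd hs (Nat.not_lt_zero s),
      rfl, rfl, fun s => ?_⟩
    simp only
    split_ifs <;> exact Submonoid.subset_closure (by simp)
  | succ K ih =>
    intro hK
    obtain ⟨g, hc, g0, g1, hm⟩ := ih (by omega)
    by_cases hK2 : K < 2
    · refine ⟨g, fun s hs x => ?_, g0, g1, hm⟩
      rcases Nat.lt_succ_iff_lt_or_eq.mp hs with hs' | rfl
      · exact hc s hs' x
      · interval_cases s
        · rw [g0]; exact hp 0 (by norm_num) x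
        · rw [g1]; exact hp 1 (by norm_num) x
    · have hK' := allBelow_eq_true.mp h K (by omega)
      simp only [Bool.or_eq_true, Nat.blt_eq, Bool.and_eq_true, forceN_eq] at hK'
      obtain hh | ⟨hlt, heq⟩ := hK'
      · exact absurd hh hK2
      have hlt' : ∀ t ∈ ws.getD K [], t < K := fun t ht => Nat.blt_eq.mp (allB_spec hlt t ht)
      refine ⟨Function.update g K (evalW g (ws.getD K [])), fun s hs x => ?_, ?_, ?_, fun s => ?_⟩
      · by_cases hsK : s = K
        · subst hsK
          rw [Function.update_self, appW_spec hc _ hlt' x]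
          exact Nat.eq_of_beq_eq_true (allBelow_eq_true.mp heq x x.2)
        · rw [Function.update_of_ne hsK]
          exact hc s (by omega) x
      · rw [Function.update_of_ne (by omega : (0 : ℕ) ≠ K)]; exact g0
      · rw [Function.update_of_ne (by omega : (1 : ℕ) ≠ K)]; exact g1
      · by_cases hsK : s = K
        · subst hsK
          rw [Function.update_self]
          refine list_prod_mem fun y hy => ?_
          obtain ⟨t, -, rfl⟩ := List.mem_map.mp hy
          exact hm t
        · rw [Function.update_of_ne hsK]; exact hm s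

end Cfsg.Agent.OutTab
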