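import Cfsg.Agent.OutTab.Table
import Cfsg.Agent.LeechModel.Involutions

/-!
A table of a class up to conjugation by an element of prime order, kept as conjugating words.
-/

set_option autoImplicit false

namespace Cfsg.Agent.OutTab

open Cfsg.Agent.Compute Cfsg.Agent.StemCert
open Cfsg.Agent.LeechModel (wordKey)

/-- Letters stored one more than their number, eight bits each. -/
noncomputable def unpackW (c : ℕ) : List ℕ :=
  Nat.rec (motive := fun _ => ℕ → List ℕ) (fun _ => [])
    (fun _ rec c => cond (Nat.beq c 0) []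
      (forceN (Nat.sub (Nat.mod c 256) 1) fun a => forceN (Nat.shiftRight c 8) fun c' => a :: rec c'))
    16 c

/-- The reversed word of inverse letters. -/
noncomputable def invW (iv : List ℕ) (a : List ℕ) : List ℕ := a.reverse.map fun s => iv.getD s 0

/-- All letters and their inverse letters are generators. -/
noncomputable def letB (k : ℕ) (iv a : List ℕ) : Bool :=
  allB (fun s => Nat.blt s k && Nat.blt (iv.getD s 0) k) a

/-- The listed inverse letters are inverse. -/
noncomputable def ivB (w k : ℕ) (cs pts iv : List ℕ) : Bool :=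
  allBelow k fun s => !(Nat.blt (iv.getD s 0) k) || eqOn w cs pts [s, iv.getD s 0] []

/-- The letters of the powers are right. -/
noncomputable def xpB (q w k : ℕ) (cs pts xp : List ℕ) : Bool :=
  allBelow q fun m => Nat.blt (xp.getD m 0) k && eqOn w cs pts [xp.getD m 0] (List.replicate m 0)

/-- The word of a representative. -/
noncomputable def Tab.wrep (T : Tab) (iv tw : List ℕ) (j : ℕ) : List ℕ :=
  unpackW (T.rep j) ++ tw ++ invW iv (unpackW (T.rep j))

/-- A word of a representative conjugated by a listed power. -/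
noncomputable def conjX (q : ℕ) (xp r : List ℕ) (m : ℕ) : List ℕ :=
  xp.getD m 0 :: r ++ [xp.getD (Nat.mod (Nat.sub q m) q) 0]

/-- Letters of a representative, least key and rank. -/
noncomputable def Tab.wminAt (T : Tab) (q w k : ℕ) (cs kp iv xp tw : List ℕ) (j : ℕ) : Bool :=
  letB k iv (unpackW (T.rep j)) &&
    forceN (wordKey w cs kp (conjX q xp (T.wrep iv tw j) 0)) fun K =>
      allBelow (Nat.sub q 1) (fun m =>
        Nat.blt K (wordKey w cs kp (conjX q xp (T.wrep iv tw j) (Nat.succ m)))) &&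
        Nat.blt (T.rk j) T.size && Nat.beq (look T.ord (T.rk j)) j

/-- The keys increase in the listed order. -/
noncomputable def Tab.wsortAt (T : Tab) (q w : ℕ) (cs kp iv xp tw : List ℕ) (i : ℕ) : Bool :=
  Nat.beq (Nat.succ i) T.size ||
    Nat.blt (wordKey w cs kp (conjX q xp (T.wrep iv tw (look T.ord i)) 0))
      (wordKey w cs kp (conjX q xp (T.wrep iv tw (look T.ord (Nat.succ i))) 0))

/-- The word of a condition at a word. -/
noncomputable def expW (xp r : List ℕ) (c : List ℕ × ℕ) : List ℕ :=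
  (List.replicate c.2 (c.1.flatMap fun a => xp.getD a 0 :: r)).flatten

/-- A representative fails a condition, apart from two. -/
noncomputable def Tab.wrefuteAt (T : Tab) (n w : ℕ) (cs iv xp tw : List ℕ) (conds : List (List ℕ × ℕ))
    (jτ j : ℕ) : Bool :=
  Nat.beq j 0 || Nat.beq j jτ ||
    forceN (Nat.mod (T.wit j 0) 64) fun ci => forceN (Nat.div (T.wit j 0) 64) fun p =>
      Nat.blt ci conds.length && Nat.blt p n &&
        !(Nat.beq (appW w cs (expW xp (T.wrep iv tw j) (conds.getD ci ([], 0))) p) p)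

/-- The value of a condition. -/
def condVal {G : Type*} [Group G] (X R : G) (c : List ℕ × ℕ) : G :=
  ((c.1.map fun a => X ^ a * R).prod) ^ c.2

variable {n w k q : ℕ} {G : Type*} [Group G] {ι : G →* Equiv.Perm (Fin n)} {gen : ℕ → G}
  {cs pts kp iv xp tw : List ℕ} {T : Tab}

theorem letB_spec {a : List ℕ} (h : letB k iv a = true) :
    (∀ s ∈ a, s < k ∧ iv.getD s 0 < k) ∧ ∀ s ∈ invW iv a, s < k := by
  have h' : ∀ s ∈ a, s < k ∧ iv.getD s 0 < k := fun s hs => by
    have := allB_spec h s hs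
    simpa [Nat.blt_eq] using this
  refine ⟨h', fun s hs => ?_⟩
  obtain ⟨r, hr, rfl⟩ := List.mem_map.mp hs
  exact (h' r (List.mem_reverse.mp hr)).2

theorem evalW_invW (hc : Coded (w := w) (k := k) ι gen cs) (hb : IsBase ι pts)
    (hiv : ivB w k cs pts iv = true) :
    ∀ {a : List ℕ}, (∀ s ∈ a, s < k ∧ iv.getD s 0 < k) → evalW gen (invW iv a) = (evalW gen a)⁻¹
  | [], _ => by simp [invW, evalW]
  | s :: a, h => by
    obtain ⟨hs, hi⟩ := h s (by simp)
    have h1 := allBelow_eq_true.mp hiv s hs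
    simp only [Bool.or_eq_true, Bool.not_eq_true'] at h1
    have e : gen s * gen (iv.getD s 0) = 1 := by
      rcases h1 with h1 | h1
      · rw [show Nat.blt (iv.getD s 0) k = true from Nat.blt_eq.mpr hi] at h1
        exact Bool.noConfusion h1
      · have := eq_of_eqOn hc hb (a := [s, iv.getD s 0]) (b := [])
          (by simp only [List.mem_cons, List.not_mem_nil, or_false]; rintro _ (rfl | rfl) <;> assumption)
          (by simp) h1
        simpa [evalW] using this
    have ih := evalW_invW hc hb hiv fun r hr => h r (List.mem_cons_of_mem _ hr)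
    rw [show invW iv (s :: a) = invW iv a ++ [iv.getD s 0] by simp [invW], evalW_append, ih,
      show evalW gen [iv.getD s 0] = gen (iv.getD s 0) by simp [evalW], evalW_cons, mul_inv_rev,
      ← eq_inv_of_mul_eq_one_right e]

/-- The conditions on powers and inverses. -/
structure WordBase (q w k : ℕ) (ι : G →* Equiv.Perm (Fin n)) (gen : ℕ → G)
    (cs pts iv xp : List ℕ) : Prop where
  coded : Coded (w := w) (k := k) ι gen cs
  base : IsBase ι pts
  inv : ivB w k cs pts iv = true
  pow : xpB q w k cs pts xp = true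
  kpos : 0 < k
  qpos : 0 < q
  order : gen 0 ^ q = 1

variable (B : WordBase q w k ι gen cs pts iv xp)

include B in
theorem WordBase.xp_spec {m : ℕ} (hm : m < q) :
    xp.getD m 0 < k ∧ gen (xp.getD m 0) = gen 0 ^ m := by
  have h := allBelow_eq_true.mp B.pow m hm
  simp only [Bool.and_eq_true, Nat.blt_eq] at h
  refine ⟨h.1, ?_⟩
  have := eq_of_eqOn B.coded B.base (a := [xp.getD m 0]) (b := List.replicate m 0)
    (fun a ha => (List.mem_singleton.mp ha) ▸ h.1)
    (fun s hs => (List.eq_of_mem_replicate hs) ▸ B.kpos) h.2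
  rw [evalW_replicate] at this
  simpa [evalW] using this

include B in
theorem WordBase.conjX_spec {r : List ℕ} (hr : ∀ s ∈ r, s < k) {m : ℕ} (hm : m < q) :
    (∀ s ∈ conjX q xp r m, s < k) ∧
      evalW gen (conjX q xp r m) = gen 0 ^ m * evalW gen r * (gen 0 ^ m)⁻¹ := by
  obtain ⟨h1, e1⟩ := B.xp_spec hm
  obtain ⟨h2, e2⟩ := B.xp_spec (show Nat.mod (Nat.sub q m) q < q from Nat.mod_lt _ B.qpos)
  refine ⟨fun s hs => ?_, ?_⟩
  · simp only [conjX, List.cons_append, List.mem_cons, List.mem_append, List.not_mem_nil,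
      or_false] at hs
    rcases hs with rfl | hs | rfl
    exacts [h1, hr s hs, h2]
  · have hinv : (gen 0 ^ m)⁻¹ = gen 0 ^ ((q - m) % q) := by
      refine inv_eq_of_mul_eq_one_right ?_
      rw [← pow_eq_pow_mod _ B.order, ← pow_add, Nat.add_sub_cancel' hm.le, B.order]
    rw [conjX, evalW_append, evalW_cons, e1,
      show evalW gen [xp.getD (Nat.mod (Nat.sub q m) q) 0] = gen (xp.getD (Nat.mod (Nat.sub q m) q) 0)
        by simp [evalW], e2, hinv]
    rfl

include B in
theorem WordBase.key_congr (hkp : ∀ p ∈ kp, p < n) {a b : List ℕ} (ha : ∀ s ∈ a, s < k)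
    (hb : ∀ s ∈ b, s < k) (e : evalW gen a = evalW gen b) :
    wordKey w cs kp a = wordKey w cs kp b := by
  induction kp with
  | nil => rfl
  | cons p ps ih =>
    show Nat.add (appW w cs a p) (Nat.shiftLeft (wordKey w cs ps a) w) =
      Nat.add (appW w cs b p) (Nat.shiftLeft (wordKey w cs ps b) w)
    rw [← appW_spec B.coded a ha ⟨p, hkp p (by simp)⟩, ← appW_spec B.coded b hb ⟨p, hkp p (by simp)⟩,
      e, ih fun r hr => hkp r (List.mem_cons_of_mem _ hr)]

include B in
theorem WordBase.wrep_spec (htw : ∀ s ∈ tw, s < k) {j : ℕ}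
    (h : letB k iv (unpackW (T.rep j)) = true) :
    (∀ s ∈ T.wrep iv tw j, s < k) ∧ evalW gen (T.wrep iv tw j) =
      evalW gen (unpackW (T.rep j)) * evalW gen tw * (evalW gen (unpackW (T.rep j)))⁻¹ := by
  obtain ⟨h1, h2⟩ := letB_spec h
  refine ⟨fun s hs => ?_, ?_⟩
  · simp only [Tab.wrep, List.mem_append] at hs
    rcases hs with (hs | hs) | hs
    exacts [(h1 s hs).1, htw s hs, h2 s hs]
  · rw [Tab.wrep, evalW_append, evalW_append, evalW_invW B.coded B.base B.inv h1]

include B in
/-- Conjugates of distinct listed pairs are distinct. -/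
theorem Tab.wrep_injective (hkp : ∀ p ∈ kp, p < n) (htw : ∀ s ∈ tw, s < k)
    (hmin : ∀ j < T.size, T.wminAt q w k cs kp iv xp tw j = true)
    (hsort : ∀ i < T.size, T.wsortAt q w cs kp iv xp tw i = true) {j j' m m' : ℕ} (hj : j < T.size)
    (hj' : j' < T.size) (hm : m < q) (hm' : m' < q)
    (he : gen 0 ^ m * evalW gen (T.wrep iv tw j) * (gen 0 ^ m)⁻¹ =
      gen 0 ^ m' * evalW gen (T.wrep iv tw j') * (gen 0 ^ m')⁻¹) : j = j' ∧ m = m' := by
  set K : ℕ → ℕ → ℕ := fun a d => wordKey w cs kp (conjX q xp (T.wrep iv tw a) d)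
  have hlet : ∀ a < T.size, ∀ s ∈ T.wrep iv tw a, s < k := fun a ha => by
    have h := hmin a ha
    simp only [Tab.wminAt, Bool.and_eq_true] at h
    exact (B.wrep_spec htw h.1).1
  have hkey : ∀ {a a' d d' : ℕ}, a < T.size → a' < T.size → d < q → d' < q →
      gen 0 ^ d * evalW gen (T.wrep iv tw a) * (gen 0 ^ d)⁻¹ =
        gen 0 ^ d' * evalW gen (T.wrep iv tw a') * (gen 0 ^ d')⁻¹ → K a d = K a' d' := by
    intro a a' d d' ha ha' hd hd' e
    obtain ⟨l1, e1⟩ := B.conjX_spec (hlet a ha) hd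
    obtain ⟨l2, e2⟩ := B.conjX_spec (hlet a' ha') hd'
    exact B.key_congr hkp l1 l2 (e1.trans (e.trans e2.symm))
  have hleast : ∀ a < T.size, ∀ d < q, K a 0 ≤ K a d ∧ (K a 0 = K a d → d = 0) := by
    intro a ha d hd
    have h := hmin a ha
    simp only [Tab.wminAt, forceN_eq, Bool.and_eq_true] at h
    rcases Nat.eq_zero_or_pos d with rfl | hpos
    · exact ⟨le_rfl, fun _ => rfl⟩
    · have := allBelow_eq_true.mp h.2.1.1 (d - 1) (show d - 1 < q - 1 by omega)
      rw [Nat.blt_eq, show Nat.succ (d - 1) = d by omega] at this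
      exact ⟨this.le, fun e => absurd e this.ne⟩
  have hshift : ∀ {r r' : G} {d d' : ℕ}, d < q → d' < q →
      gen 0 ^ d * r * (gen 0 ^ d)⁻¹ = gen 0 ^ d' * r' * (gen 0 ^ d')⁻¹ →
      gen 0 ^ 0 * r * (gen 0 ^ 0)⁻¹ = gen 0 ^ ((q - d + d') % q) * r' * (gen 0 ^ ((q - d + d') % q))⁻¹ := by
    intro r r' d d' hd _ e
    rw [← pow_eq_pow_mod _ B.order, pow_add, show gen 0 ^ (q - d) = (gen 0 ^ d)⁻¹ from
      eq_inv_of_mul_eq_one_left (by rw [← pow_add, Nat.sub_add_cancel hd.le, B.order])]
    calc gen 0 ^ 0 * r * (gen 0 ^ 0)⁻¹ = (gen 0 ^ d)⁻¹ * (gen 0 ^ d * r * (gen 0 ^ d)⁻¹) * gen 0 ^ d := by group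
      _ = _ := by rw [e]; group
  have hq0 := B.qpos
  have k1 := hkey hj hj' hq0 (Nat.mod_lt _ hq0) (hshift hm hm' he)
  have k2 := hkey hj' hj hq0 (Nat.mod_lt _ hq0) (hshift hm' hm he.symm)
  obtain ⟨l1, u1⟩ := hleast j' hj' _ (Nat.mod_lt (q - m + m') hq0)
  obtain ⟨l2, -⟩ := hleast j hj _ (Nat.mod_lt (q - m' + m) hq0)
  have hk : K j 0 = K j' 0 := by omega
  have hrk : ∀ a < T.size, T.rk a < T.size ∧ look T.ord (T.rk a) = a := by
    intro a ha
    have h := hmin a ha
    simp only [Tab.wminAt, forceN_eq, Bool.and_eq_true, Nat.blt_eq, Nat.beq_eq] at h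
    exact ⟨h.2.1.2, h.2.2⟩
  have hmono : ∀ a b, a < b → b < T.size → K (look T.ord a) 0 < K (look T.ord b) 0 := by
    intro a b hab
    induction b with
    | zero => omega
    | succ b ih =>
      intro hb
      have hs := hsort b (by omega)
      simp only [Tab.wsortAt, Bool.or_eq_true, Nat.beq_eq, Nat.blt_eq, Nat.succ_eq_add_one] at hs
      rcases hs with hs | hs
      · omega
      rcases Nat.lt_succ_iff_lt_or_eq.mp hab with h1 | h1
      · exact (ih h1 (by omega)).trans hs
      · exact h1 ▸ hs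
  have hjj : j = j' := by
    obtain ⟨a1, b1⟩ := hrk j hj
    obtain ⟨a2, b2⟩ := hrk j' hj'
    rw [← b1, ← b2] at hk ⊢
    rcases Nat.lt_trichotomy (T.rk j) (T.rk j') with h | h | h
    · exact absurd hk (hmono _ _ h a2).ne
    · rw [h]
    · exact absurd hk (hmono _ _ h a1).ne'
  refine ⟨hjj, ?_⟩
  have h0 := u1 (hk.symm.trans k1)
  obtain ⟨c, hc⟩ := Nat.dvd_of_mod_eq_zero h0
  rcases Nat.lt_or_ge c 2 with hc2 | hc2
  · interval_cases c <;> omega
  · have : q * 2 ≤ q * c := Nat.mul_le_mul_left q hc2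
    omega

include B in
/-- What a checked table gives. -/
theorem Tab.wclass_eq [Finite G] (hkp : ∀ p ∈ kp, p < n) (htw : ∀ s ∈ tw, s < k)
    (hmin : ∀ j < T.size, T.wminAt q w k cs kp iv xp tw j = true)
    (hsort : ∀ i < T.size, T.wsortAt q w cs kp iv xp tw i = true) {N : ℕ}
    (hcent : N ≤ Nat.card (Subgroup.centralizer ({evalW gen tw} : Set G)))
    (hN : Nat.card G = q * T.size * N) :
    (∀ g, IsConj (evalW gen tw) g → ∃ j < T.size, ∃ m < q,
      g = gen 0 ^ m * evalW gen (T.wrep iv tw j) * (gen 0 ^ m)⁻¹) ∧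
      Nat.card (Subgroup.centralizer ({evalW gen tw} : Set G)) = N := by
  classical
  set t := evalW gen tw
  have hconj : ∀ j < T.size, ∃ a : G, evalW gen (T.wrep iv tw j) = a * t * a⁻¹ := fun j hj => by
    have h := hmin j hj
    simp only [Tab.wminAt, Bool.and_eq_true] at h
    exact ⟨_, (B.wrep_spec htw h.1).2⟩
  choose a ha using hconj
  let f : Fin T.size × Fin q → {g : G // IsConj t g} := fun i =>
    ⟨gen 0 ^ (i.2 : ℕ) * evalW gen (T.wrep iv tw i.1) * (gen 0 ^ (i.2 : ℕ))⁻¹,
      isConj_iff.mpr ⟨gen 0 ^ (i.2 : ℕ) * a i.1 i.1.2, by rw [ha i.1 i.1.2]; group⟩⟩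
  have hf : Function.Injective f := fun i i' e => by
    obtain ⟨e1, e2⟩ := Tab.wrep_injective B hkp htw hmin hsort i.1.2 i'.1.2 i.2.2 i'.2.2
      (congrArg Subtype.val e)
    exact Prod.ext (Fin.ext e1) (Fin.ext e2)
  have hclass : Nat.card {g : G // IsConj t g} *
      Nat.card (Subgroup.centralizer ({t} : Set G)) = Nat.card G := by
    have h := Nat.card_congr (MulAction.orbitProdStabilizerEquivGroup (ConjAct G) t)
    rw [Nat.card_prod] at h
    have e1 : Nat.card {g : G // IsConj t g} = Nat.card (MulAction.orbit (ConjAct G) t) :=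
      Nat.card_congr (Equiv.subtypeEquivRight fun g => by
        rw [ConjAct.mem_orbit_conjAct, isConj_comm])
    have e2 : Nat.card (Subgroup.centralizer ({t} : Set G)) =
        Nat.card (MulAction.stabilizer (ConjAct G) t) :=
      Nat.card_congr (ConjAct.toConjAct.toEquiv.subtypeEquiv fun g => by
        rw [Subgroup.mem_centralizer_singleton_iff, MulAction.mem_stabilizer_iff]
        show g * t = t * g ↔ ConjAct.toConjAct g • t = t
        rw [ConjAct.toConjAct_smul, mul_inv_eq_iff_eq_mul])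
    rw [e1, e2, h]
    exact Nat.card_congr ConjAct.ofConjAct.toEquiv
  have hle : q * T.size ≤ Nat.card {g : G // IsConj t g} := by
    have := Nat.card_le_card_of_injective f hf
    rwa [Nat.card_prod, Nat.card_fin, Nat.card_fin, Nat.mul_comm] at this
  have hpos : 0 < q * T.size := by
    refine Nat.pos_of_ne_zero fun h => ?_
    rw [h, zero_mul] at hN
    exact Nat.card_pos.ne' hN
  have h1 : Nat.card {g : G // IsConj t g} = q * T.size := by
    refine le_antisymm ?_ hle
    by_contra hgt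
    have hN0 : 0 < N := Nat.pos_of_ne_zero fun h => by
      rw [h, mul_zero] at hN
      exact Nat.card_pos.ne' hN
    have : (q * T.size + 1) * N ≤ Nat.card {g : G // IsConj t g} *
        Nat.card (Subgroup.centralizer ({t} : Set G)) := Nat.mul_le_mul (by omega) hcent
    rw [hclass, hN, Nat.add_mul] at this
    omega
  refine ⟨fun g hg => ?_, ?_⟩
  · have hb : Function.Bijective f := (Nat.bijective_iff_injective_and_card f).mpr
      ⟨hf, by rw [h1, Nat.card_prod, Nat.card_fin, Nat.card_fin, Nat.mul_comm]⟩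
    obtain ⟨i, hi⟩ := hb.2 ⟨g, hg⟩
    exact ⟨i.1, i.1.2, i.2, i.2.2, (congrArg Subtype.val hi).symm⟩
  · rw [h1, hN] at hclass
    exact Nat.eq_of_mul_eq_mul_left hpos hclass

include B in
theorem WordBase.expW_spec {r : List ℕ} (hr : ∀ s ∈ r, s < k) {c : List ℕ × ℕ}
    (hc : ∀ a ∈ c.1, a < q) :
    (∀ s ∈ expW xp r c, s < k) ∧ evalW gen (expW xp r c) = condVal (gen 0) (evalW gen r) c := by
  refine ⟨fun s hs => ?_, ?_⟩
  · simp only [expW, List.mem_flatten, List.mem_replicate] at hs
    obtain ⟨l, ⟨-, rfl⟩, hs⟩ := hs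
    simp only [List.mem_flatMap, List.mem_cons] at hs
    obtain ⟨a, ha, rfl | hs⟩ := hs
    exacts [(B.xp_spec (hc a ha)).1, hr s hs]
  · have h1 : ∀ (l : List ℕ), (∀ a ∈ l, a < q) →
        evalW gen (l.flatMap fun a => xp.getD a 0 :: r) =
          (l.map fun a => gen 0 ^ a * evalW gen r).prod := by
      intro l hl
      induction l with
      | nil => rfl
      | cons a l ih =>
        rw [List.flatMap_cons, evalW_append, evalW_cons, (B.xp_spec (hl a (by simp))).2,
          ih fun b hb => hl b (List.mem_cons_of_mem _ hb)]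
        simp
    have h2 : ∀ (o : ℕ) (l : List ℕ), evalW gen (List.replicate o l).flatten = evalW gen l ^ o := by
      intro o l
      induction o with
      | zero => simp [evalW]
      | succ o ih => rw [List.replicate_succ, List.flatten_cons, evalW_append, ih, pow_succ']
    rw [expW, h2, h1 _ hc]
    rfl

include B in
/-- An automorphism fixing the element of prime order sends the other to one of two conjugates. -/
theorem Tab.wsolutions {conds : List (List ℕ × ℕ)} (hconds : ∀ c ∈ conds, ∀ a ∈ c.1, a < q) {t : G}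
    (ht : ∀ c ∈ conds, condVal (gen 0) t c = 1) {jτ : ℕ} (htw : ∀ s ∈ tw, s < k)
    (hmin : ∀ j < T.size, T.wminAt q w k cs kp iv xp tw j = true)
    (href : ∀ j < T.size, T.wrefuteAt n w cs iv xp tw conds jτ j = true) (φ : MulAut G)
    (hφ : φ (gen 0) = gen 0) {j m : ℕ} (hj : j < T.size)
    (hm : φ t = gen 0 ^ m * evalW gen (T.wrep iv tw j) * (gen 0 ^ m)⁻¹) : j = 0 ∨ j = jτ := by
  have h := href j hj
  simp only [Tab.wrefuteAt, Bool.or_eq_true, Nat.beq_eq, forceN_eq, Bool.and_eq_true, Nat.blt_eq,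
    Bool.not_eq_true'] at h
  rcases h with (h | h) | ⟨⟨hi, hp⟩, hne⟩
  · exact Or.inl h
  · exact Or.inr h
  exfalso
  set ci := Nat.mod (T.wit j 0) 64
  have hci : conds.getD ci ([], 0) ∈ conds := by
    rw [List.getD_eq_getElem _ _ hi]; exact List.getElem_mem hi
  set c := conds.getD ci ([], 0)
  set R := evalW gen (T.wrep iv tw j)
  have hlet : ∀ s ∈ T.wrep iv tw j, s < k := by
    have h := hmin j hj
    simp only [Tab.wminAt, Bool.and_eq_true] at h
    exact (B.wrep_spec htw h.1).1
  have hmap : ∀ (f : MulAut G) (S : G), f (gen 0) = gen 0 →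
      f (condVal (gen 0) S c) = condVal (gen 0) (f S) c := by
    intro f S hf
    rw [condVal, condVal, map_pow, map_list_prod, List.map_map]
    congr 2
    exact List.map_congr_left fun a _ => by
      show f (gen 0 ^ a * S) = _
      rw [map_mul, map_pow, hf]
  have h1 := congrArg φ (ht c hci)
  rw [map_one, hmap φ t hφ, hm, show gen 0 ^ m * R * (gen 0 ^ m)⁻¹ = MulAut.conj (gen 0 ^ m) R from rfl,
    ← hmap (MulAut.conj (gen 0 ^ m)) R (by
      show gen 0 ^ m * gen 0 * (gen 0 ^ m)⁻¹ = gen 0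
      group),
    MulEquiv.map_eq_one_iff] at h1
  obtain ⟨hl, he⟩ := B.expW_spec hlet (hconds c hci)
  have := appW_spec B.coded _ hl ⟨_, hp⟩
  rw [he, h1] at this
  simp only [map_one, Equiv.Perm.one_apply] at this
  rw [← this] at hne
  simp at hne

end Cfsg.Agent.OutTab
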