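import Cfsg.Agent.OutTab.WordTable
import Cfsg.Agent.LeechModel.OutCert

/-!
The centraliser of an element from candidates for the images of two points.
-/

set_option autoImplicit false

namespace Cfsg.Agent.OutTab

open Cfsg.Agent.Compute Cfsg.Agent.StemCert
open Cfsg.Agent.LeechModel (allB_of_forall)

/-- A bit of a mask. -/
noncomputable def bitB (m y : ℕ) : Bool := Nat.beq (Nat.mod (Nat.shiftRight m y) 2) 1

/-- The masks contain the orbits of the base points. -/
noncomputable def maskB (w : ℕ) (cs : List ℕ) : List Lv → List ℕ → List ℕ → Bool :=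
  fun Ls => List.rec (motive := fun _ => List ℕ → List ℕ → Bool) (fun _ _ => true)
    (fun L _ rec bs ms =>
      allBelow L.size (fun j => bitB (ms.headD 0) (appW w cs (L.word j) (bs.headD 0))) &&
        rec bs.tail ms.tail) Ls

/-- No normal form has the listed images, shown by the digits up to an impossible one. -/
noncomputable def failB (w k : ℕ) (cs iv : List ℕ) :
    List Lv → List ℕ → List ℕ → List ℕ → ℕ → List ℕ → Bool :=
  fun Ls => List.rec (motive := fun _ => List ℕ → List ℕ → List ℕ → ℕ → List ℕ → Bool)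
    (fun _ _ _ _ _ => false)
    (fun L _ rec bs ms tg d pre => forceN (appW w cs (invW iv pre) (tg.headD 0)) fun y =>
      !(bitB (ms.headD 0) y) ||
        forceN (Nat.mod d 65536) fun j => Nat.blt j L.size && letB k iv (L.word j) &&
          Nat.beq (appW w cs (L.word j) (bs.headD 0)) y &&
          rec bs.tail ms.tail tg.tail (Nat.shiftRight d 16) (pre ++ L.word j)) Ls

/-- The images that a candidate for the first two points would give. -/
noncomputable def tgtOf (w : ℕ) (cs : List ℕ) (sl : ℕ) (es : List ℕ) (a c : ℕ) : List ℕ :=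
  a :: es.map fun e => appW w cs (List.replicate e sl) c

/-- A candidate is impossible or is listed. -/
noncomputable def candB (n w k : ℕ) (cs iv : List ℕ) (D : List Lv) (pts ms : List ℕ) (sl : ℕ)
    (es fx : List ℕ) (els : Arr (List ℕ)) (m : ℕ) (tab : List (Arr ℕ)) (i : ℕ) : Bool :=
  forceN (fx.getD (Nat.div i n) 0) fun a => forceN (Nat.mod i n) fun c =>
    forceN (look tab i) fun W => cond (Nat.beq (Nat.mod W 2) 1)
      (failB w k cs iv D pts ms (tgtOf w cs sl es a c) (Nat.div W 2) [])
      (Nat.blt (Nat.div W 2) m && forceL (els.get [] (Nat.div W 2)) fun u =>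
        allBelow pts.length fun r =>
          Nat.beq (appW w cs u (pts.getD r 0)) ((tgtOf w cs sl es a c).getD r 0))

/-- The fixed points are listed. -/
noncomputable def fixListB (n w : ℕ) (cs : List ℕ) (sl : ℕ) (fx : List ℕ) : Bool :=
  forceN (cs.getD sl 0) fun s => allBelow n fun a => !(Nat.beq (getField w s a) a) || memB a fx

variable {n w k : ℕ} {G : Type*} [Group G] {ι : G →* Equiv.Perm (Fin n)} {gen : ℕ → G}
  {cs pts iv : List ℕ}

theorem eqOn_of_eq (hc : Coded (w := w) (k := k) ι gen cs) (hlt : ∀ p ∈ pts, p < n) {a b : List ℕ}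
    (ha : ∀ s ∈ a, s < k) (hb : ∀ s ∈ b, s < k) (e : evalW gen a = evalW gen b) :
    eqOn w cs pts a b = true := by
  refine allB_of_forall fun p hp => ?_
  rw [Nat.beq_eq, ← appW_spec hc a ha ⟨p, hlt p hp⟩, ← appW_spec hc b hb ⟨p, hlt p hp⟩, e]

theorem failB_ne (hc : Coded (w := w) (k := k) ι gen cs) {bp : List ℕ} (hb : IsBase ι bp)
    (hiv : ivB w k cs bp iv = true) :
    ∀ {Ls : List Lv} {bs ms tg pre : List ℕ} {d : ℕ}, wfB Ls = true → gensBelow k Ls = true →
      (∀ b ∈ bs, b < n) → distinctB w cs Ls bs = true → maskB w cs Ls bs ms = true →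
      letB k iv pre = true → failB w k cs iv Ls bs ms tg d pre = true →
      ∀ y, Valid Ls y → ¬ ∀ i < bs.length, ∀ p : Fin n, (p : ℕ) = bs.getD i 0 →
        (ι (evalW gen pre * nf gen Lv.word Ls y) p : ℕ) = tg.getD i 0
  | [], _, _, _, _, _, _, _, _, _, _, _, h => by simp [failB] at h
  | _ :: _, [], _, _, _, _, _, _, _, hd, _, _, _ => by simp [distinctB] at hd
  | L :: Ls, b :: bs, ms, tg, pre, d, hw, hg, hlt, hd, hm, hpre, h => by
    obtain ⟨-, -, hword, -, hw'⟩ := wfB_cons hw
    have hg' : (allB (fun s => Nat.blt s k) L.gens && gensBelow k Ls) = true := hg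
    have hd' : (fixBelow w cs Ls b &&
      allBelow L.size (fun j =>
        allBelow j (fun j' => !Nat.beq (appW w cs (L.word j) b) (appW w cs (L.word j') b))) &&
      distinctB w cs Ls bs) = true := hd
    have hm' : (allBelow L.size (fun j => bitB (ms.headD 0) (appW w cs (L.word j) b)) &&
      maskB w cs Ls bs ms.tail) = true := hm
    simp only [Bool.and_eq_true] at hg' hd' hm'
    rintro y ⟨j, r, rfl, hj, hr⟩ he
    have hbn : b < n := hlt b (by simp)
    obtain ⟨hp1, hp2⟩ := letB_spec hpre
    have hjk : ∀ s ∈ L.word j, s < k := fun s hs => gens_lt hg (by simp) (hword j hj s hs)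
    have e0 := he 0 (by simp) ⟨b, hbn⟩ (by simp)
    simp only [nf, List.headD_cons, List.tail_cons, map_mul, Equiv.Perm.mul_apply] at e0
    rw [nf_fix hc (b := ⟨b, hbn⟩) hw' hg'.2 hd'.1.1 hr] at e0
    have hy : appW w cs (invW iv pre) (tg.headD 0) = appW w cs (L.word j) b := by
      have h0 : tg.getD 0 0 = tg.headD 0 := by cases tg <;> rfl
      rw [← h0, ← e0, ← appW_spec hc _ hp2, evalW_invW hc hb hiv hp1, map_inv, Equiv.Perm.inv_def,
        Equiv.symm_apply_apply, appW_spec hc _ hjk]
    have h' : (forceN (appW w cs (invW iv pre) (tg.headD 0)) fun y =>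
      !(bitB (ms.headD 0) y) ||
        forceN (Nat.mod d 65536) fun j => Nat.blt j L.size && letB k iv (L.word j) &&
          Nat.beq (appW w cs (L.word j) b) y &&
          failB w k cs iv Ls bs ms.tail tg.tail (Nat.shiftRight d 16) (pre ++ L.word j)) = true := h
    simp only [forceN_eq, Bool.or_eq_true, Bool.not_eq_true', Bool.and_eq_true, Nat.blt_eq,
      Nat.beq_eq, hy] at h'
    rcases h' with h' | ⟨⟨⟨hj0, hlet⟩, e1⟩, hrec⟩
    · rw [allBelow_eq_true.mp hm'.1 j hj] at h'
      exact Bool.noConfusion h'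
    · have hjj : Nat.mod d 65536 = j := by
        rcases Nat.lt_trichotomy (Nat.mod d 65536) j with h1 | h1 | h1
        · have := allBelow_eq_true.mp (allBelow_eq_true.mp hd'.1.2 j hj) _ h1
          rw [e1] at this
          simp at this
        · exact h1
        · have := allBelow_eq_true.mp (allBelow_eq_true.mp hd'.1.2 _ hj0) j h1
          rw [e1] at this
          simp at this
      rw [hjj] at hlet hrec
      refine failB_ne hc hb hiv hw' hg'.2 (fun c hc' => hlt c (List.mem_cons_of_mem _ hc')) hd'.2
        hm'.2 (allB_of_forall fun s hs => ?_) hrec r hr fun i hi p hp => ?_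
      · rcases List.mem_append.mp hs with hs | hs
        exacts [allB_spec hpre s hs, allB_spec hlet s hs]
      · have := he (i + 1) (by simpa using hi) p (by simpa using hp)
        simp only [nf, List.headD_cons, List.tail_cons] at this
        rw [← mul_assoc, ← evalW_append] at this
        rw [this]
        cases tg <;> simp

/-- The data of the candidates. -/
structure CentChecks (n w k : ℕ) (cs iv pts : List ℕ) (D : List Lv) (ms : List ℕ) (sl b0 b1 : ℕ)
    (es fx : List ℕ) (els : Arr (List ℕ)) (m : ℕ) (tab : List (Arr ℕ)) : Prop where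
  slk : sl < k
  pts_eq : pts = tgtOf w cs sl es b0 b1
  ptlt : b0 < n ∧ b1 < n
  fixed : Nat.beq (getField w (cs.getD sl 0) b0) b0 = true
  fix : fixListB n w cs sl fx = true
  mask : maskB w cs D pts ms = true
  cand : ∀ i < fx.length * n, candB n w k cs iv D pts ms sl es fx els m tab i = true
  letters : allBelow m (fun j => allB (fun s => Nat.blt s k) (els.get [] j)) = true

/-- An element commuting with the given one is listed. -/
theorem centraliser_cases [Finite G] {D : List Lv} {ms : List ℕ} {sl b0 b1 m : ℕ}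
    {es fx : List ℕ} {els : Arr (List ℕ)} {tab : List (Arr ℕ)}
    (C : CentChecks n w k cs iv pts D ms sl b0 b1 es fx els m tab)
    (hc : Coded (w := w) (k := k) ι gen cs) (hb : IsBase ι pts) (hiv : ivB w k cs pts iv = true)
    (hw : wfB D = true) (hg : gensBelow k D = true) (hd : distinctB w cs D pts = true)
    (hforms : numForms D = Nat.card G) {g : G} (hcomm : g * gen sl = gen sl * g) :
    ∃ j < m, g = evalW gen (els.get [] j) := by
  classical
  set a : ℕ := (ι g ⟨b0, C.ptlt.1⟩ : ℕ) with hadef
  set c : ℕ := (ι g ⟨b1, C.ptlt.2⟩ : ℕ) with hcdef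
  have hpow : ∀ e : ℕ, g * gen sl ^ e = gen sl ^ e * g := fun e => (Commute.pow_right hcomm e).eq
  have hfix : getField w (cs.getD sl 0) a = a := by
    have e : ι (gen sl) ⟨b0, C.ptlt.1⟩ = ⟨b0, C.ptlt.1⟩ :=
      Fin.ext (by rw [hc sl C.slk]; exact Nat.eq_of_beq_eq_true C.fixed)
    rw [hadef, ← hc sl C.slk, ← Equiv.Perm.mul_apply, ← map_mul, ← hcomm, map_mul,
      Equiv.Perm.mul_apply, e]
  have hmem : a ∈ fx := by
    have h := allBelow_eq_true.mp (show (allBelow n fun p =>
      !(Nat.beq (getField w (cs.getD sl 0) p) p) || memB p fx) = true by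
        have := C.fix; rwa [fixListB, forceN_eq] at this) a (ι g ⟨b0, C.ptlt.1⟩).2
    simp only [Bool.or_eq_true, Bool.not_eq_true'] at h
    rcases h with h | h
    · rw [show Nat.beq (getField w (cs.getD sl 0) a) a = true from Nat.beq_eq.mpr hfix] at h
      exact Bool.noConfusion h
    · exact memB_eq_true.mp h
  obtain ⟨ia, hia, hiae⟩ := List.mem_iff_getElem.mp hmem
  have hn : 0 < n := Nat.zero_lt_of_lt C.ptlt.1
  have hcn : c < n := (ι g ⟨b1, C.ptlt.2⟩).2
  have hi : ia * n + c < fx.length * n := by
    calc ia * n + c < ia * n + n := by omega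
      _ = (ia + 1) * n := by ring
      _ ≤ fx.length * n := Nat.mul_le_mul_right n hia
  have h := C.cand _ hi
  rw [candB, forceN_eq, forceN_eq, forceN_eq] at h
  rw [show Nat.div (ia * n + c) n = ia by
      show (ia * n + c) / n = ia
      rw [Nat.mul_comm, Nat.mul_add_div hn, Nat.div_eq_of_lt hcn, Nat.add_zero],
    show Nat.mod (ia * n + c) n = c by
      show (ia * n + c) % n = c
      rw [Nat.mul_comm, Nat.mul_add_mod, Nat.mod_eq_of_lt hcn],
    List.getD_eq_getElem _ _ hia, hiae] at h
  have htg : ∀ i < pts.length, ∀ p : Fin n, (p : ℕ) = pts.getD i 0 →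
      (ι g p : ℕ) = (tgtOf w cs sl es a c).getD i 0 := by
    intro i hi' p hp
    rw [C.pts_eq] at hi' hp
    rcases i with - | i
    · have : p = ⟨b0, C.ptlt.1⟩ := Fin.ext (by simpa [tgtOf] using hp)
      subst this
      rfl
    · have hie : i < es.length := by simpa [tgtOf] using hi'
      have hp' : (p : ℕ) = appW w cs (List.replicate es[i] sl) b1 := by
        simpa [tgtOf, List.getD_eq_getElem?_getD, hie] using hp
      have hrep : ∀ s ∈ List.replicate es[i] sl, s < k := fun s hs =>
        (List.eq_of_mem_replicate hs) ▸ C.slk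
      have hpe : p = ι (gen sl ^ es[i]) ⟨b1, C.ptlt.2⟩ := Fin.ext (by
        rw [hp', ← evalW_replicate gen, appW_spec hc _ hrep])
      rw [hpe, ← Equiv.Perm.mul_apply, ← map_mul, hpow, map_mul, Equiv.Perm.mul_apply,
        ← evalW_replicate gen, appW_spec hc _ hrep]
      simp [tgtOf, List.getD_eq_getElem?_getD, hie, hcdef]
  cases hW : Nat.beq (Nat.mod (look tab (ia * n + c)) 2) 1
  · rw [hW, cond_false] at h
    simp only [Bool.and_eq_true, Nat.blt_eq, forceL_eq] at h
    obtain ⟨hj, hall⟩ := h
    refine ⟨_, hj, ?_⟩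
    set u := els.get [] (Nat.div (look tab (ia * n + c)) 2)
    have huk : ∀ s ∈ u, s < k := fun s hs => by
      have := allBelow_eq_true.mp C.letters _ hj
      exact Nat.blt_eq.mp (allB_spec this s hs)
    refine (inv_mul_eq_one.mp (hb.2 _ fun p hp => ?_)).symm
    obtain ⟨i, hi', hie⟩ := List.mem_iff_getElem.mp hp
    have hp' : (p : ℕ) = pts.getD i 0 := by rw [List.getD_eq_getElem _ _ hi', hie]
    have e2 : ι (evalW gen u) p = ι g p := Fin.ext (by
      rw [htg i hi' p hp', appW_spec hc u huk, hp']
      exact Nat.eq_of_beq_eq_true (allBelow_eq_true.mp hall i hi'))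
    rw [map_mul, map_inv, Equiv.Perm.mul_apply, ← e2, Equiv.Perm.inv_def, Equiv.symm_apply_apply]
  · rw [hW, cond_true] at h
    exfalso
    let f : forms D → G := fun y => nf gen Lv.word D y.1
    have hbij : Function.Bijective f := (Nat.bijective_iff_injective_and_card f).mpr
      ⟨fun u v e => Subtype.ext (nf_injective_of_check hc hw hg hb.1 hd _ _
        (valid_of_mem_forms u.2) (valid_of_mem_forms v.2) e), by simp [card_forms, hforms]⟩
    obtain ⟨y, hy⟩ := hbij.2 g
    refine failB_ne hc hb hiv hw hg hb.1 hd C.mask (by rfl) h y.1 (valid_of_mem_forms y.2)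
      fun i hi' p hp => ?_
    rw [show evalW gen [] = 1 from rfl, one_mul, show nf gen Lv.word D y.1 = g from hy]
    exact htg i hi' p hp

end Cfsg.Agent.OutTab
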