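import Cfsg.Agent.OutTab.Criterion
import Cfsg.Agent.LeechModel.OutCert

/-!
An outer automorphism group of order two: the normaliser of the prime subgroup is full.
-/

set_option autoImplicit false

namespace Cfsg.Agent.OutTab

open Cfsg.Agent.Compute Cfsg.Agent.StemCert
open Cfsg.Agent.LeechModel

variable {G : Type*} [Group G] [Finite G] {q : ℕ} {x t : G}

/-- After an inner automorphism an element of order `q` goes to itself. -/
theorem exists_conj_to_self (hq : q.Prime) (hx : orderOf x = q) (hsyl : ¬ q ^ 2 ∣ Nat.card G)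
    {r : ℕ} {h : G} (hh : h * x * h⁻¹ = x ^ r)
    (hfin : ∀ k : Fin q, k.val ≠ 0 → ∃ j : Fin q, r ^ j.val * k.val % q = 1)
    (y : G) (hy : orderOf y = q) : ∃ g : G, g * y * g⁻¹ = x := by
  obtain ⟨g, hg | hg⟩ := exists_conj_to_sign hq hx hsyl hh
    (fun k hk => (hfin k hk).imp fun j hj => Or.inl hj) y hy
  · exact ⟨g, hg⟩
  obtain ⟨j, hj⟩ := hfin ⟨q - 1, by have := hq.pos; omega⟩
    (by have := hq.two_le; show q - 1 ≠ 0; omega)
  have hconj : ∀ i m : ℕ, h ^ i * x ^ m * (h ^ i)⁻¹ = x ^ (r ^ i * m) := by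
    intro i
    induction i with
    | zero => intro m; simp
    | succ i ih =>
      intro m
      rw [pow_succ, show h ^ i * h * x ^ m * (h ^ i * h)⁻¹ =
        h ^ i * (h * x ^ m * h⁻¹) * (h ^ i)⁻¹ by group, ← conj_pow, hh, ← pow_mul, ih, pow_succ,
        mul_assoc]
  refine ⟨h ^ (j : ℕ) * g, ?_⟩
  rw [show h ^ (j : ℕ) * g * y * (h ^ (j : ℕ) * g)⁻¹ =
    h ^ (j : ℕ) * (g * y * g⁻¹) * (h ^ (j : ℕ))⁻¹ by group, hg, hconj,
    pow_eq_pow_mod _ (show x ^ q = 1 by rw [← hx, pow_orderOf_eq_one]), hj, pow_one]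

omit [Finite G] in
/-- The criterion. -/
theorem card_out_eq_two {τ : MulAut G} (hgen : Subgroup.closure ({x, t} : Set G) = ⊤)
    (hpm : ∀ y : G, orderOf y = q → ∃ g : G, g * y * g⁻¹ = x) (hx : orderOf x = q)
    (hτx : τ x = x)
    (hsol : ∀ φ : MulAut G, φ x = x →
      ∃ (m : ℕ) (ψ : MulAut G), (ψ = 1 ∨ ψ = τ) ∧ φ t = x ^ m * ψ t * (x ^ m)⁻¹)
    (hτ : ∀ g : G, MulAut.conj g ≠ τ) : Nat.card (Cfsg.Out G) = 2 := by
  have hall : ∀ φ : MulAut G, ∃ (g : G) (ψ : MulAut G), (ψ = 1 ∨ ψ = τ) ∧ φ = MulAut.conj g * ψ := by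
    intro φ
    obtain ⟨g, hg⟩ := hpm (φ x) (by rw [MulEquiv.orderOf_eq, hx])
    obtain ⟨m, ψ, hψ, e2⟩ := hsol (MulAut.conj g * φ) hg
    have hψx : ψ x = x := by rcases hψ with rfl | rfl; exacts [rfl, hτx]
    refine ⟨g⁻¹ * x ^ m, ψ, hψ, MulEquiv.toMonoidHom_injective (MonoidHom.eq_of_eqOn_dense hgen ?_)⟩
    change g * φ t * g⁻¹ = _ at e2
    rintro a (rfl | rfl)
    · change φ a = g⁻¹ * a ^ m * ψ a * (g⁻¹ * a ^ m)⁻¹
      rw [hψx]
      calc φ a = g⁻¹ * (g * φ a * g⁻¹) * g := by group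
        _ = g⁻¹ * a * g := by rw [hg]
        _ = g⁻¹ * a ^ m * a * (g⁻¹ * a ^ m)⁻¹ := by group
    · change φ a = g⁻¹ * x ^ m * ψ a * (g⁻¹ * x ^ m)⁻¹
      calc φ a = g⁻¹ * (g * φ a * g⁻¹) * g := by group
        _ = g⁻¹ * (x ^ m * ψ a * (x ^ m)⁻¹) * g := by rw [e2]
        _ = g⁻¹ * x ^ m * ψ a * (g⁻¹ * x ^ m)⁻¹ := by group
  have hnot : τ ∉ Cfsg.Inn G := fun ⟨r, hr⟩ => hτ r hr
  rw [show Cfsg.Out G = (MulAut G ⧸ Cfsg.Inn G) from rfl, Nat.card_eq_two_iff]
  refine ⟨((1 : MulAut G) : MulAut G ⧸ Cfsg.Inn G), ((τ : MulAut G) : MulAut G ⧸ Cfsg.Inn G), ?_, ?_⟩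
  · intro e
    rw [QuotientGroup.eq, inv_one, one_mul] at e
    exact hnot e
  · refine Set.eq_univ_of_forall fun a => ?_
    obtain ⟨φ, rfl⟩ := QuotientGroup.mk_surjective a
    obtain ⟨g, ψ, hψ, rfl⟩ := hall φ
    have key : ((MulAut.conj g * ψ : MulAut G) : MulAut G ⧸ Cfsg.Inn G) = (ψ : MulAut G ⧸ Cfsg.Inn G) := by
      rw [QuotientGroup.mk_mul,
        (QuotientGroup.eq_one_iff _).mpr (show MulAut.conj g ∈ Cfsg.Inn G from ⟨g, rfl⟩), one_mul]
    rcases hψ with rfl | rfl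
    · exact Or.inl key
    · exact Or.inr key

/-- A permutation conjugates the first `k'` generators to words. -/
noncomputable def normAtB (n w k : ℕ) (cs : List ℕ) (sc k' : ℕ) (ws : List (List ℕ)) : Bool :=
  allBelow k' fun s => allB (fun t => Nat.blt t k) (ws.getD s []) &&
    forceN (cs.getD s 0) fun c => forceL (ws.getD s []) fun u =>
      allBelow n fun p => Nat.beq (getField w sc (getField w c p)) (appW w cs u (getField w sc p))

variable {n w k k' : ℕ} {ι : G →* Equiv.Perm (Fin n)} {gen : ℕ → G} {cs : List ℕ}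

/-- An automorphism induced by a permutation. -/
theorem exists_twist (hc : Coded (w := w) (k := k) ι gen cs) (hinj : Function.Injective ι)
    (hk : k' ≤ k) (hgen : ∀ a : G, a ∈ Submonoid.closure (gen '' {s | s < k'})) {sc : ℕ}
    (hs : codePermB w n sc = true) {ws : List (List ℕ)} (h : normAtB n w k cs sc k' ws = true) :
    ∃ (σ : Equiv.Perm (Fin n)) (τ : MulAut G),
      (∀ p : Fin n, (σ p : ℕ) = getField w sc p) ∧ ∀ a, ι (τ a) * σ = σ * ι a := by
  obtain ⟨hmap, hbij⟩ := codePerm_of_check hs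
  let σ : Equiv.Perm (Fin n) := Equiv.ofBijective _ hbij
  have hσ : ∀ p : Fin n, (σ p : ℕ) = getField w sc p := fun p => rfl
  have hex : ∀ a : G, ∃ a', ι a' = σ * ι a * σ⁻¹ := by
    intro a
    induction hgen a using Submonoid.closure_induction with
    | mem x hx =>
      obtain ⟨s, hs', rfl⟩ := hx
      have hs'' := allBelow_eq_true.mp h s hs'
      simp only [Bool.and_eq_true, forceN_eq, forceL_eq] at hs''
      refine ⟨evalW gen (ws.getD s []), eq_mul_inv_of_mul_eq (Equiv.ext fun p => Fin.ext ?_)⟩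
      rw [Equiv.Perm.mul_apply, Equiv.Perm.mul_apply,
        appW_spec hc _ (fun t ht => Nat.blt_eq.mp (allB_spec hs''.1 t ht)), hσ p, hσ,
        hc s (Nat.lt_of_lt_of_le hs' hk) p]
      exact (Nat.eq_of_beq_eq_true (allBelow_eq_true.mp hs''.2 p p.2)).symm
    | one => exact ⟨1, by simp⟩
    | mul x y _ _ hx hy =>
      obtain ⟨x', hx'⟩ := hx
      obtain ⟨y', hy'⟩ := hy
      exact ⟨x' * y', by rw [map_mul, hx', hy', map_mul]; group⟩
  choose f hf using hex
  let F : G →* G := MonoidHom.mk' f fun a b => hinj (by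
    rw [hf, map_mul, map_mul, hf, hf]; group)
  have hFinj : Function.Injective F := fun a b e => hinj (by
    have := congrArg ι e
    rw [show F a = f a from rfl, show F b = f b from rfl, hf, hf] at this
    exact mul_left_cancel (mul_right_cancel this))
  exact ⟨σ, MulEquiv.ofBijective F (Finite.injective_iff_bijective.mp hFinj), hσ, fun a => by
    show ι (f a) * σ = _
    rw [hf, inv_mul_cancel_right]⟩

omit [Finite G] in
/-- Distinctness of one level by positions. -/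
theorem distinctB_cons_of_pos {L : Lv} {rest : List Lv} {b : ℕ} {bs : List ℕ} {P : Arr ℕ}
    (h : (fixBelow w cs rest b &&
      allBelow L.size fun j => Nat.beq (P.get 0 (appW w cs (L.word j) b)) j) = true)
    (h' : distinctB w cs rest bs = true) : distinctB w cs (L :: rest) (b :: bs) = true := by
  show (fixBelow w cs rest b &&
      allBelow L.size (fun j =>
        allBelow j (fun j' => !Nat.beq (appW w cs (L.word j) b) (appW w cs (L.word j') b))) &&
      distinctB w cs rest bs) = true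
  simp only [Bool.and_eq_true] at h ⊢
  refine ⟨⟨h.1, allBelow_eq_true.mpr fun j hj => allBelow_eq_true.mpr fun j' hj' => ?_⟩, h'⟩
  have h1 := Nat.eq_of_beq_eq_true (allBelow_eq_true.mp h.2 j hj)
  have h2 := Nat.eq_of_beq_eq_true (allBelow_eq_true.mp h.2 j' (hj'.trans hj))
  rw [Bool.not_eq_true', ← Bool.not_eq_true]
  intro hb
  rw [Nat.eq_of_beq_eq_true hb] at h1
  omega

end Cfsg.Agent.OutTab
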